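import Groth.Prelude.Def_Flatn
import Groth.Prelude.Def_Mor2
import Groth.Agent.S7194
import Groth.Agent.Lib.OverRep16.Glue
import Groth.Agent.Lib.SymFlat14.Chart

/-!
# Representability of the functor of morphisms from a finite locally free scheme
-/

set_option autoImplicit false
set_option linter.style.haveILetI false
set_option backward.isDefEq.respectTransparency false
set_option backward.isDefEq.respectTransparency.types false

universe u

open CategoryTheory CategoryTheory.Limits AlgebraicGeometry Opposite TopologicalSpace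

noncomputable section

namespace Groth.Agent.MorAF4

variable {Z X S : Scheme.{u}} (g : Z ⟶ S) (f : X ⟶ S)

/-- The base change of a morphism. -/
def m {T T' : Over S} (a : T' ⟶ T) : pullback T'.hom g ⟶ pullback T.hom g :=
  pullback.lift (pullback.fst T'.hom g ≫ a.left) (pullback.snd T'.hom g)
    (by rw [Category.assoc, Over.w a, pullback.condition])

theorem m_fst {T T' : Over S} (a : T' ⟶ T) : m g a ≫ pullback.fst T.hom g = pullback.fst T'.hom g ≫ a.left :=
  pullback.lift_fst _ _ _

theorem m_snd {T T' : Over S} (a : T' ⟶ T) : m g a ≫ pullback.snd T.hom g = pullback.snd T'.hom g :=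
  pullback.lift_snd _ _ _

theorem isPullback_m {T T' : Over S} (a : T' ⟶ T) :
    IsPullback (m g a) (pullback.fst T'.hom g) (pullback.fst T.hom g) a.left := by
  refine IsPullback.of_right ?_ (m_fst g a) (IsPullback.of_hasPullback T.hom g).flip
  rw [m_snd, Over.w]
  exact (IsPullback.of_hasPullback T'.hom g).flip

theorem map_left {T T' : Over S} (a : T' ⟶ T) (b : (Flatn.morS g f).obj (op T)) :
    ((Flatn.morS g f).map a.op b).left = m g a ≫ b.left := by
  show ((Over.map g).map ((Over.pullback g).map a) ≫ b).left = _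
  rfl

theorem isZarSheaf : OverRep16.IsZarSheaf (Flatn.morS g f) := by
  intro T 𝒰 x hx
  let P := pullback T.hom g
  let 𝒱 : Scheme.OpenCover.{u + 1} P := 𝒰.pullback₁ (pullback.fst T.hom g)
  let l : ∀ k, pullback (pullback.fst T.hom g) (𝒰.f k) ⟶ pullback (𝒰.f k ≫ T.hom) g := fun k =>
    pullback.lift (pullback.snd _ _) (pullback.fst _ _ ≫ pullback.snd T.hom g) (by
      rw [← Category.assoc, ← pullback.condition, Category.assoc, pullback.condition, Category.assoc])
  have hl : ∀ k, l k ≫ m g (OverRep16.piece 𝒰 k) = pullback.fst _ _ := fun k => by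
    apply pullback.hom_ext
    · rw [Category.assoc, m_fst]
      simp [l, pullback.condition]
    · rw [Category.assoc, m_snd]
      simp [l]
  have hcompat : ∀ k k', pullback.fst (pullback.fst (pullback.fst T.hom g) (𝒰.f k)) (pullback.fst (pullback.fst T.hom g) (𝒰.f k')) ≫ l k ≫ (x k).left =
      pullback.snd (pullback.fst (pullback.fst T.hom g) (𝒰.f k)) (pullback.fst (pullback.fst T.hom g) (𝒰.f k')) ≫ l k' ≫ (x k').left := fun k k' => by
    let W := pullback (pullback.fst (pullback.fst T.hom g) (𝒰.f k)) (pullback.fst (pullback.fst T.hom g) (𝒰.f k'))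
    let T' : Over S := Over.mk (pullback.fst (𝒰.f k) (𝒰.f k') ≫ 𝒰.f k ≫ T.hom)
    let a : T' ⟶ Over.mk (𝒰.f k ≫ T.hom) := Over.homMk (pullback.fst (𝒰.f k) (𝒰.f k')) rfl
    let b : T' ⟶ Over.mk (𝒰.f k' ≫ T.hom) := Over.homMk (pullback.snd (𝒰.f k) (𝒰.f k')) (by
      show _ ≫ 𝒰.f k' ≫ T.hom = _
      rw [← pullback.condition_assoc]; rfl)
    have h := congrArg (fun t => Over.Hom.left t) (hx k k' T' a b pullback.condition)
    erw [map_left, map_left] at h
    let q₁ : W ⟶ (𝒰.X k) := pullback.fst _ _ ≫ pullback.snd _ _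
    let q₂ : W ⟶ (𝒰.X k') := pullback.snd _ _ ≫ pullback.snd _ _
    let w : W ⟶ pullback T'.hom g := pullback.lift
      (pullback.lift q₁ q₂ (by simp only [q₁, q₂, Category.assoc, ← pullback.condition]; rw [pullback.condition_assoc]))
      (pullback.fst _ _ ≫ pullback.fst _ _ ≫ pullback.snd T.hom g) (by
        show _ ≫ pullback.fst _ _ ≫ 𝒰.f k ≫ T.hom = _
        rw [pullback.lift_fst_assoc]
        simp only [q₁, Category.assoc, ← pullback.condition, ← pullback.condition_assoc])
    have hw₁ : w ≫ m g a = pullback.fst _ _ ≫ l k := by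
      apply pullback.hom_ext
      · rw [Category.assoc, m_fst, ← Category.assoc, pullback.lift_fst]
        simp [a, l, q₁, pullback.lift_fst]
      · rw [Category.assoc, m_snd, pullback.lift_snd]
        simp [l]
    have hw₂ : w ≫ m g b = pullback.snd _ _ ≫ l k' := by
      apply pullback.hom_ext
      · rw [Category.assoc, m_fst, ← Category.assoc, pullback.lift_fst]
        simp [b, l, q₂, pullback.lift_snd]
      · rw [Category.assoc, m_snd, pullback.lift_snd]
        simp [l, pullback.condition_assoc]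
    rw [← Category.assoc, ← hw₁, ← Category.assoc, ← hw₂, Category.assoc, Category.assoc, h]
  let y₀ : P ⟶ X := 𝒱.glueMorphisms (fun k => l k ≫ (x k).left) hcompat
  have hy₀ : ∀ k, pullback.fst (pullback.fst T.hom g) (𝒰.f k) ≫ y₀ = l k ≫ (x k).left := fun k =>
    𝒱.ι_glueMorphisms _ _ k
  refine ⟨Over.homMk y₀ (𝒱.hom_ext _ _ fun k => ?_), fun k => Over.OverMorphism.ext ?_, fun z hz => Over.OverMorphism.ext (𝒱.hom_ext _ _ fun k => ?_)⟩
  · show pullback.fst _ _ ≫ y₀ ≫ f = pullback.fst _ _ ≫ pullback.snd T.hom g ≫ g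
    rw [reassoc_of% hy₀ k]
    have : (x k).left ≫ f = pullback.snd (𝒰.f k ≫ T.hom) g ≫ g := Over.w (x k)
    rw [this]
    simp [l]
  · rw [map_left]
    show m g (OverRep16.piece 𝒰 k) ≫ y₀ = (x k).left
    let r : pullback (𝒰.f k ≫ T.hom) g ⟶ pullback (pullback.fst T.hom g) (𝒰.f k) :=
      pullback.lift (m g (OverRep16.piece 𝒰 k)) (pullback.fst _ _) (m_fst g _)
    rw [show m g (OverRep16.piece 𝒰 k) = r ≫ pullback.fst _ _ from (pullback.lift_fst _ _ _).symm]
    erw [Category.assoc, hy₀]
    rw [← Category.assoc]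
    refine Eq.trans (congrArg (· ≫ Over.Hom.left (x k)) ?_) (Category.id_comp _)
    apply pullback.hom_ext
    · simp [l, r, pullback.lift_snd]
    · rw [Category.assoc, pullback.lift_snd, pullback.lift_fst_assoc, m_snd, Category.id_comp]
      rfl
  · show pullback.fst _ _ ≫ z.left = pullback.fst _ _ ≫ y₀
    rw [hy₀, ← hl k, Category.assoc, ← map_left g f, hz k]

section Chart

variable [IsFinite g] [Flat g] [LocallyOfFinitePresentation g]

theorem exists_chart (V : S.Opens) (hV : IsAffineOpen V) (U : X.Opens) (hU : IsAffineOpen U) (hUV : U ≤ f ⁻¹ᵁ V) : ∃ C : OverRep16.Chart (Flatn.morS g f), ∀ (T : Over S) (b : (Flatn.morS g f).obj (op T)),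
    Set.range T.hom ⊆ (V : Set S) → Set.range b.left ⊆ (U : Set X) →
      ∃ h : T ⟶ C.U, (Flatn.morS g f).map h.op C.Z = b := by
  let gV : pullback V.ι g ⟶ (V : Scheme.{u}) := pullback.fst V.ι g
  let fU : (U : Scheme.{u}) ⟶ (V : Scheme.{u}) := f.resLE V U hUV
  haveI : IsAffine (U : Scheme.{u}) := hU
  haveI : IsAffine (V : Scheme.{u}) := hV
  haveI : IsAffineHom fU := isAffineHom_of_isAffine fU
  haveI : IsFinite gV := MorphismProperty.pullback_fst _ _ inferInstance
  haveI : Flat gV := MorphismProperty.pullback_fst _ _ inferInstance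
  haveI : LocallyOfFinitePresentation gV := MorphismProperty.pullback_fst _ _ inferInstance
  obtain ⟨W, -, ⟨e⟩⟩ := S7194.result gV fU ⟨inferInstance, inferInstance, inferInstance⟩
  let θ : ∀ {T : Over S} (s : T.left ⟶ (V : Scheme.{u})), s ≫ V.ι = T.hom → (pullback T.hom g ⟶ pullback s gV) :=
    fun {T} s hs => pullback.lift (pullback.fst T.hom g)
      (pullback.lift (pullback.fst T.hom g ≫ s) (pullback.snd T.hom g) (by rw [Category.assoc, hs, pullback.condition]))
      (pullback.lift_fst _ _ _).symm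
  let θ' : ∀ {T : Over S} (s : T.left ⟶ (V : Scheme.{u})), s ≫ V.ι = T.hom → (pullback s gV ⟶ pullback T.hom g) :=
    fun {T} s hs => pullback.lift (pullback.fst s gV) (pullback.snd s gV ≫ pullback.snd V.ι g) (by
      rw [← hs, pullback.condition_assoc, Category.assoc, ← pullback.condition])
  have hθ : ∀ {T : Over S} (s : T.left ⟶ (V : Scheme.{u})) (hs : s ≫ V.ι = T.hom), θ' s hs ≫ θ s hs = 𝟙 _ := by
    intro T s hs
    apply pullback.hom_ext
    · simp [θ, θ', gV]
    · apply pullback.hom_ext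
      · simp only [θ, θ', Category.assoc, Category.id_comp, pullback.lift_snd, pullback.lift_fst,
          pullback.lift_fst_assoc]
        exact pullback.condition
      · simp [θ, θ']
  let ev : pullback W.hom gV ⟶ (U : Scheme.{u}) := (e.homEquiv (𝟙 W)).left
  have hev : ev ≫ fU = pullback.snd W.hom gV ≫ gV := Over.w (e.homEquiv (𝟙 W))
  let C₀ : Over S := Over.mk (W.hom ≫ V.ι)
  let Z₀ : (Flatn.morS g f).obj (op C₀) := Over.homMk (θ (T := C₀) W.hom rfl ≫ ev ≫ U.ι) (by
    show (θ (T := C₀) W.hom rfl ≫ ev ≫ U.ι) ≫ f = pullback.snd (W.hom ≫ V.ι) g ≫ g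
    rw [Category.assoc, Category.assoc, ← Scheme.Hom.resLE_comp_ι f hUV, reassoc_of% hev]
    simp only [gV, pullback.condition]
    rw [← Category.assoc (pullback.snd W.hom _), ← Category.assoc]
    congr 1
    show θ (T := C₀) W.hom rfl ≫ pullback.snd W.hom (pullback.fst V.ι g) ≫ pullback.snd V.ι g = _
    rw [pullback.lift_snd_assoc, pullback.lift_snd]
    rfl)
  have hmap : ∀ {T : Over S} (h : T ⟶ C₀) (s : T.left ⟶ (V : Scheme.{u})) (hs : s ≫ V.ι = T.hom)
      (hh : h.left ≫ W.hom = s), ((Flatn.morS g f).map h.op Z₀).left =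
      θ s hs ≫ (e.homEquiv (Over.homMk h.left hh : Over.mk s ⟶ W)).left ≫ U.ι := by
    intro T h s hs hh
    rw [map_left, e.homEquiv_eq (Over.homMk h.left hh : Over.mk s ⟶ W), map_left]
    show m g h ≫ θ (T := C₀) W.hom rfl ≫ ev ≫ U.ι =
      θ s hs ≫ (m gV (Over.homMk h.left hh : Over.mk s ⟶ W) ≫ ev) ≫ U.ι
    simp only [← Category.assoc]
    congr 2
    apply pullback.hom_ext
    · simp [θ, m, pullback.lift_fst, C₀]
    · apply pullback.hom_ext
      · simp [θ, m, C₀, hh]
      · simp [θ, m, C₀]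
  have hfind : ∀ (T : Over S) (b : (Flatn.morS g f).obj (op T)), Set.range T.hom ⊆ (V : Set S) →
      Set.range b.left ⊆ (U : Set X) → ∃ h : T ⟶ C₀, (Flatn.morS g f).map h.op Z₀ = b := by
    intro T b hT hb
    let s := IsOpenImmersion.lift V.ι T.hom (by rwa [Scheme.Opens.range_ι])
    have hs : s ≫ V.ι = T.hom := IsOpenImmersion.lift_fac _ _ _
    let b₁ := IsOpenImmersion.lift U.ι b.left (by rwa [Scheme.Opens.range_ι])
    have hb₁ : b₁ ≫ U.ι = b.left := IsOpenImmersion.lift_fac _ _ _
    let bV : (Flatn.morS gV fU).obj (op (Over.mk s)) := Over.homMk (θ' s hs ≫ b₁) (by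
      show (θ' s hs ≫ b₁) ≫ fU = pullback.snd s gV ≫ gV
      rw [← cancel_mono V.ι, Category.assoc, Category.assoc, Scheme.Hom.resLE_comp_ι, reassoc_of% hb₁,
        show b.left ≫ f = pullback.snd T.hom g ≫ g from Over.w b]
      simp [θ', gV, pullback.condition])
    let v := e.homEquiv.symm bV
    have hv : v.left ≫ W.hom = s := Over.w v
    refine ⟨Over.homMk v.left (by show v.left ≫ W.hom ≫ V.ι = T.hom; rw [reassoc_of% hv, hs]), Over.OverMorphism.ext ?_⟩
    rw [hmap _ s hs hv]
    have : (Over.homMk v.left hv : Over.mk s ⟶ W) = v := Over.OverMorphism.ext rfl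
    erw [this, Equiv.apply_symm_apply]
    show θ s hs ≫ (θ' s hs ≫ b₁) ≫ U.ι = b.left
    rw [Category.assoc, hb₁, ← Category.assoc]
    convert Category.id_comp _ using 2
    apply pullback.hom_ext
    · simp [θ, θ']
    · simp [θ, θ']
  refine ⟨{ U := C₀, Z := Z₀, eq_of_map_eq := ?_, exists_locus := ?_ }, hfind⟩
  · intro T h h' heq
    have hs : (h.left ≫ W.hom) ≫ V.ι = T.hom := by rw [Category.assoc]; exact Over.w h
    have hh' : h'.left ≫ W.hom = h.left ≫ W.hom := by
      rw [← cancel_mono V.ι, hs, Category.assoc]; exact Over.w h'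
    have h1 := congrArg (fun t => Over.Hom.left t) heq
    rw [hmap h _ hs rfl, hmap h' _ hs hh'] at h1
    have h2 := congrArg (fun t => θ' (h.left ≫ W.hom) hs ≫ t) h1
    simp only [← Category.assoc, hθ, Category.id_comp, cancel_mono] at h2
    have h3 := e.homEquiv.injective (Over.OverMorphism.ext h2)
    exact Over.OverMorphism.ext (congrArg (fun t : Over.mk (h.left ≫ W.hom) ⟶ W => t.left) h3)
  · intro T b
    have hcl : IsClosed (pullback.fst T.hom g '' (b.left ⁻¹' (U : Set X)ᶜ)) :=
      haveI : IsFinite (pullback.fst T.hom g) := MorphismProperty.pullback_fst _ _ inferInstance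
      (pullback.fst T.hom g).isClosedMap _ (U.2.isClosed_compl.preimage b.left.continuous)
    refine ⟨T.hom ⁻¹ᵁ V ⊓ ⟨_, hcl.isOpen_compl⟩, fun {T'} a => ⟨fun ha => ?_, ?_⟩⟩
    · refine hfind T' _ ?_ ?_
      · rintro _ ⟨y, rfl⟩
        rw [← Over.w a, Scheme.Hom.comp_apply]
        exact (ha y).1
      · rintro _ ⟨w, rfl⟩
        rw [map_left, Scheme.Hom.comp_apply]
        by_contra hw
        refine (ha (pullback.fst T'.hom g w)).2 ⟨m g a w, hw, ?_⟩
        rw [← Scheme.Hom.comp_apply, m_fst]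
        rfl
    · rintro ⟨h, hh⟩ y
      refine ⟨?_, ?_⟩
      · show T.hom (a.left y) ∈ V
        rw [← Scheme.Hom.comp_apply, Over.w a, ← Over.w h, Scheme.Hom.comp_apply]
        show V.ι (W.hom (h.left y)) ∈ V
        exact (W.hom (h.left y)).2
      · rintro ⟨z, hz, hzy⟩
        obtain ⟨w, hw, -⟩ := Scheme.exists_preimage_of_isPullback (isPullback_m g a) z y hzy
        apply hz
        have h1 := congrArg (fun t => t.left w) hh
        simp only [map_left, Scheme.Hom.comp_apply] at h1
        show b.left z ∈ U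
        rw [← hw]
        refine (Eq.mp (congrArg (fun q : X => q ∈ (U : Set X)) h1) ?_ : _)
        exact (ev (θ (T := C₀) W.hom rfl (m g h w))).2

end Chart

/-- Representability, when finitely many points in a fibre lie in affine opens. -/
theorem isRepresentable [IsFinite g] [Flat g] [LocallyOfFinitePresentation g]
    (hAF : ∀ (s : S) (E : Set X), E.Finite → E ⊆ f ⁻¹' {s} → ∃ U : X.Opens, IsAffineOpen U ∧ E ⊆ U) :
    (Flatn.morS g f).IsRepresentable := by
  let κ := { p : S.affineOpens × X.affineOpens // (p.2 : X.Opens) ≤ f ⁻¹ᵁ (p.1 : S.Opens) }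
  choose C hC using fun k : κ => exists_chart g f k.1.1.1 k.1.1.2 k.1.2.1 k.1.2.2 k.2
  obtain ⟨R, ⟨e⟩⟩ := OverRep16.representable_of_charts (isZarSheaf g f) C fun T b t => by
    haveI : IsFinite (pullback.fst T.hom g) := MorphismProperty.pullback_fst _ _ inferInstance
    let E : Set X := b.left '' (pullback.fst T.hom g ⁻¹' {t})
    have hE : E.Finite := ((pullback.fst T.hom g).finite_preimage_singleton t).image _
    have hEs : E ⊆ f ⁻¹' {T.hom t} := by
      rintro _ ⟨z, hz, rfl⟩
      have h1 : (b.left ≫ f) z = (pullback.fst T.hom g ≫ T.hom) z :=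
        congrArg (fun φ : pullback T.hom g ⟶ S => φ z) ((Over.w b).trans pullback.condition.symm)
      exact h1.trans ((Scheme.Hom.comp_apply _ _ _).trans (congrArg T.hom hz))
    obtain ⟨V, hV, htV, -⟩ := exists_isAffineOpen_mem_and_subset (X := S) (x := T.hom t) (U := ⊤) trivial
    obtain ⟨U₁, hU₁, hEU⟩ := hAF (T.hom t) E hE hEs
    obtain ⟨r, hr, hEr⟩ := SymFlat14.exists_basicOpen_of_finite hU₁ (f ⁻¹ᵁ V) hE fun z hz =>
      ⟨by show f z ∈ V; rw [hEs hz]; exact htV, hEU hz⟩
    let k : κ := ⟨(⟨V, hV⟩, ⟨X.basicOpen r, hU₁.basicOpen r⟩), hr⟩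
    have hcl : IsClosed (pullback.fst T.hom g '' (b.left ⁻¹' (X.basicOpen r : Set X)ᶜ)) :=
      (pullback.fst T.hom g).isClosedMap _ ((X.basicOpen r).2.isClosed_compl.preimage b.left.continuous)
    let O : T.left.Opens := T.hom ⁻¹ᵁ V ⊓ ⟨_, hcl.isOpen_compl⟩
    refine ⟨k, O, ⟨htV, ?_⟩, hC k _ _ ?_ ?_⟩
    · rintro ⟨z, hz, hzt⟩
      exact hz (hEr ⟨z, hzt, rfl⟩)
    · rintro _ ⟨y, rfl⟩
      exact y.2.1
    · rintro _ ⟨w, rfl⟩
      rw [map_left, Scheme.Hom.comp_apply]
      by_contra hw
      refine (pullback.fst (O.ι ≫ T.hom) g w).2.2 ⟨m g _ w, hw, ?_⟩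
      rw [← Scheme.Hom.comp_apply, m_fst]
      rfl
  exact e.isRepresentable

end Groth.Agent.MorAF4
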